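import Mathlib.RingTheory.Trace.Basic
import Mathlib.Algebra.Module.ZMod
import Mathlib.Algebra.Algebra.ZMod
import Mathlib.FieldTheory.Finite.Basic
import Mathlib.FieldTheory.Perfect

/-!
# Additive functionals on vector spaces over a finite field

For a finite field `k` of characteristic `p` and a `k`-vector space `V`, composition with the trace
identifies `Hom_k(V, k)` with `Hom(V, 𝔽_p)`.
-/

set_option autoImplicit false
universe u v

namespace EtCoh.K382.DualAdd

/-- There is an additive form `τ : k → 𝔽_p` such that every additive form is `c ↦ τ (a c)` for a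
unique `a`. -/
theorem exists_tr (p : ℕ) [Fact p.Prime] (k : Type u) [Field k] [Finite k] [CharP k p] :
    ∃ τ : k →+ ZMod p, ∀ θ : k →+ ZMod p, ∃! a : k, ∀ c, θ c = τ (a * c) := by
  let _ : Algebra (ZMod p) k := ZMod.algebra k p
  have : Module.Finite (ZMod p) k := Module.Finite.of_finite
  have hnd : (Algebra.traceForm (ZMod p) k).Nondegenerate := traceForm_nondegenerate (ZMod p) k
  refine ⟨(Algebra.trace (ZMod p) k).toAddMonoidHom, fun θ => ?_⟩
  let e := LinearMap.BilinForm.toDual (Algebra.traceForm (ZMod p) k) hnd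
  refine ⟨e.symm (θ.toZModLinearMap p), fun c => ?_, fun a ha => ?_⟩
  · have h := LinearMap.BilinForm.apply_toDual_symm_apply (B := Algebra.traceForm (ZMod p) k)
      (hB := hnd) (θ.toZModLinearMap p) c
    exact h.symm
  · refine (LinearEquiv.eq_symm_apply e).2 (LinearMap.ext fun c => ?_)
    exact (ha c).symm

/-- Composition with the trace form is a bijection `Hom_k(V, k) → Hom(V, 𝔽_p)`. -/
theorem exists_tr_bijective (p : ℕ) [Fact p.Prime] (k : Type u) [Field k] [Finite k] [CharP k p] :
    ∃ τ : k →+ ZMod p, ∀ (V : Type v) [AddCommGroup V] [Module k V],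
      Function.Bijective (fun ψ : V →ₗ[k] k => τ.comp ψ.toAddMonoidHom) := by
  obtain ⟨τ, hτ⟩ := exists_tr p k
  refine ⟨τ, fun V _ _ => ⟨fun ψ ψ' h => LinearMap.ext fun v => ?_, fun σ => ?_⟩⟩
  · obtain ⟨a, -, ha⟩ := hτ (τ.comp (AddMonoidHom.mulLeft (ψ v)))
    rw [ha (ψ v) fun c => rfl, ha (ψ' v) fun c => ?_]
    have h1 := DFunLike.congr_fun h (c • v)
    change τ (ψ (c • v)) = τ (ψ' (c • v)) at h1
    rw [ψ.map_smul, ψ'.map_smul, smul_eq_mul, smul_eq_mul, mul_comm, mul_comm c] at h1
    exact h1
  · choose a ha hu using fun v : V => hτ (σ.comp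
      (AddMonoidHom.flip (smulAddHom k V) v))
    have ha' : ∀ v c, σ (c • v) = τ (a v * c) := ha
    refine ⟨{ toFun := a, map_add' := fun v w => ?_, map_smul' := fun b v => ?_ }, ?_⟩
    · refine (hu (v + w) (a v + a w) fun c => ?_).symm
      change σ (c • (v + w)) = _
      rw [smul_add, map_add, ha', ha', add_mul, map_add]
    · refine (hu (b • v) (b * a v) fun c => ?_).symm
      change σ (c • b • v) = _
      rw [smul_smul, ha']
      congr 1
      ring
    · refine AddMonoidHom.ext fun v => ?_
      change τ (a v) = σ v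
      rw [← mul_one (a v), ← ha', one_smul]

end EtCoh.K382.DualAdd
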