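import Groth.Agent.AdjLin.K800.Duality
import Groth.Agent.Lefpen.H716.CIGeom
import Groth.Agent.EtCoh.K382.TraceDual
import Groth.Prelude.Def_Coh
import Groth.Prelude.Def_Omega2
import Groth.Prelude.Def_ExtPow2
import Mathlib.AlgebraicGeometry.Morphisms.Proper
import Mathlib.AlgebraicGeometry.Morphisms.Smooth

/-!
# Serre duality with values in the prime field

For a smooth proper scheme `X` over a finite field of characteristic `p`, the top differentials
represent `F ↦ Hom(H^d(X, F), 𝔽_p)` on quasi-coherent modules.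
-/

set_option autoImplicit false
universe u
open CategoryTheory CategoryTheory.Limits AlgebraicGeometry Opposite

namespace EtCoh.K382.DualAdd

theorem exists_dual (k : Type u) [Field k] [Finite k] (p : ℕ) [Fact p.Prime] [CharP k p]
    (X : Scheme.{u}) (f : X ⟶ Spec (.of k)) [AlgebraicGeometry.IsIntegral X] [IsProper f] (d : ℕ)
    [SmoothOfRelativeDimension d f] (L : X.Modules) (hL : ExtPow.IsExtPow d (Omega.sheaf f) L) :
    ∃ t : Coh.HH X L d →+ ZMod p, ∀ F : X.Modules, Coh.IsQCoh F → Function.Bijective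
      (fun φ : F ⟶ L => (t.comp (AddMonoidHom.mk'
        (fun x => Sheaf.H.map ((SheafOfModules.toSheaf X.ringCatSheaf).map φ) d x) (map_add _)) :
          Coh.HH X F d →+ ZMod p)) := by
  let _ : X.Over (Spec (CommRingCat.of k)) := ⟨f⟩
  have : IsProper (X ↘ Spec (CommRingCat.of k)) := ‹IsProper f›
  have : SmoothOfRelativeDimension d (X ↘ Spec (CommRingCat.of k)) :=
    ‹SmoothOfRelativeDimension d f›
  obtain ⟨t, ht⟩ := K800.Duality.isDual_of_isTopDiff k X d
    (Groth.Agent.Lefpen.H716.CIGeom.topologicalKrullDim_le_of_smooth d f) L hL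
  obtain ⟨τ, hτ⟩ := exists_tr_bijective p k
  refine ⟨τ.comp t.toAddMonoidHom, fun F hF => ⟨fun φ φ' h => ?_, fun σ => ?_⟩⟩
  · obtain ⟨φ₀, -, hu⟩ := ht F hF (t ∘ₗ Groth.Agent.FormalA.HHLin.HHmap k φ d)
    have hψ : t ∘ₗ Groth.Agent.FormalA.HHLin.HHmap k φ d =
        t ∘ₗ Groth.Agent.FormalA.HHLin.HHmap k φ' d :=
      (hτ (Coh.HH X F d)).1 (AddMonoidHom.ext fun x => DFunLike.congr_fun h x)
    rw [hu φ fun x => rfl, hu φ' fun x => LinearMap.congr_fun hψ x]
  · obtain ⟨ψ, hψ⟩ := (hτ (Coh.HH X F d)).2 σ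
    obtain ⟨φ, hφ, -⟩ := ht F hF ψ
    refine ⟨φ, AddMonoidHom.ext fun x => ?_⟩
    refine Eq.trans ?_ (DFunLike.congr_fun hψ x)
    exact (congrArg τ (hφ x)).symm

end EtCoh.K382.DualAdd
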